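import Mathlib
import Groth.Agent.S0702

/-! Quasi-finite algebras over zero-dimensional extremally disconnected spectra with separably closed residue fields. -/

set_option autoImplicit false
set_option linter.style.haveILetI false
set_option backward.isDefEq.respectTransparency false
universe u

open TensorProduct Topology

namespace Groth.Agent.ZeroDimEDLib

theorem extremallyDisconnected_of_local {X : Type*} [TopologicalSpace X]
    (h : ∀ x : X, ∃ N : Set X, IsOpen N ∧ x ∈ N ∧ ExtremallyDisconnected N) : ExtremallyDisconnected X := by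
  refine ⟨fun U hU => isOpen_iff_mem_nhds.2 fun x hx => ?_⟩
  obtain ⟨N, hN, hxN, hED⟩ := h x
  have h1 : IsOpen (closure ((Subtype.val : N → X) ⁻¹' U)) :=
    hED.open_closure _ (hU.preimage continuous_subtype_val)
  rw [← hN.isOpenEmbedding_subtypeVal.isOpenMap.preimage_closure_eq_closure_preimage continuous_subtype_val] at h1
  refine Filter.mem_of_superset ((hN.isOpenEmbedding_subtypeVal.isOpenMap _ h1).mem_nhds
    (show x ∈ Subtype.val '' ((Subtype.val : N → X) ⁻¹' closure U) from ⟨⟨x, hxN⟩, hx, rfl⟩)) ?_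
  exact Set.image_preimage_subset _ _

theorem isOpen_of_isConstructible {X : Type*} [TopologicalSpace X] [T2Space X] [CompactSpace X] {s : Set X}
    (hs : Topology.IsConstructible s) : IsOpen s := by
  suffices IsClopen s from this.isOpen
  induction hs using Topology.IsConstructible.empty_union_induction with
  | open_retrocompact U hU hUc => exact ⟨hUc.isCompact.isClosed, hU⟩
  | union s _ t _ h h' => exact h.union h'
  | compl s _ h => exact h.compl

/-- The image of `b ⊗ 1` and `1 ⊗ b` agree in a domain quotient, in the purely inseparable case. -/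
theorem eq_of_purelyInseparable {k L M : Type u} [Field k] [Field L] [CommRing M] [IsDomain M] [Algebra k L]
    [IsPurelyInseparable k L] (f g : L →+* M) (h : f.comp (algebraMap k L) = g.comp (algebraMap k L)) (x : L) :
    f x = g x := by
  obtain ⟨n, r, hr⟩ := IsPurelyInseparable.pow_mem k (ringExpChar k) x
  haveI : ExpChar M (ringExpChar k) :=
    expChar_of_injective_ringHom (f.comp (algebraMap k L)).injective (ringExpChar k)
  have h0 : (f x - g x) ^ (ringExpChar k) ^ n = 0 := by
    rw [sub_pow_expChar_pow, ← map_pow, ← map_pow, ← hr]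
    exact sub_eq_zero.2 (RingHom.congr_fun h r)
  exact sub_eq_zero.1 (eq_zero_of_pow_eq_zero h0)

variable {A B : Type u} [CommRing A] [CommRing B] [Algebra A B]

/-- A prime of the self tensor product with both projections a maximal ideal contains the diagonal ideal. -/
theorem diag_le [Algebra.FiniteType A B] (y : Ideal B) [y.IsMaximal] [(y.comap (algebraMap A B)).IsMaximal]
    (hsep : IsSepClosed (y.comap (algebraMap A B)).ResidueField) (P : Ideal (B ⊗[A] B)) [P.IsPrime]
    (h1 : P.comap (Algebra.TensorProduct.includeLeft : B →ₐ[A] B ⊗[A] B).toRingHom = y)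
    (h2 : P.comap (Algebra.TensorProduct.includeRight : B →ₐ[A] B ⊗[A] B).toRingHom = y) :
    KaehlerDifferential.ideal A B ≤ P := by
  let p := y.comap (algebraMap A B)
  letI : Field (A ⧸ p) := Ideal.Quotient.field p
  letI : Field (B ⧸ y) := Ideal.Quotient.field y
  let e : (A ⧸ p) ≃+* p.ResidueField := RingEquiv.ofBijective _ p.bijective_algebraMap_quotient_residueField
  haveI : IsSepClosed (A ⧸ p) := IsSepClosed.of_exists_root _ fun f hf hirr hs => by
    haveI := hsep
    obtain ⟨x, hx⟩ := IsSepClosed.exists_root (f.map (e : (A ⧸ p) →+* p.ResidueField))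
      (by rw [Polynomial.degree_map]; exact (Polynomial.degree_pos_of_irreducible hirr).ne') hs.map
    refine ⟨e.symm x, e.injective ?_⟩
    rw [map_zero]
    have h3 : (f.map (e : (A ⧸ p) →+* p.ResidueField)).eval (e (e.symm x)) = 0 := by rw [e.apply_symm_apply]; exact hx
    exact (Polynomial.eval_map_apply (f := (e : (A ⧸ p) →+* p.ResidueField)) (p := f) (e.symm x)).symm.trans h3
  haveI : Algebra.FiniteType A (B ⧸ y) := .of_surjective (Ideal.Quotient.mkₐ A y) Ideal.Quotient.mk_surjective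
  haveI : Algebra.FiniteType (A ⧸ p) (B ⧸ y) := .of_restrictScalars_finiteType A _ _
  haveI : Module.Finite (A ⧸ p) (B ⧸ y) := finite_of_finite_type_of_isJacobsonRing _ _
  haveI : IsPurelyInseparable (A ⧸ p) (B ⧸ y) := inferInstance
  let f : B ⧸ y →+* (B ⊗[A] B) ⧸ P := Ideal.quotientMap P _ h1.ge
  let g : B ⧸ y →+* (B ⊗[A] B) ⧸ P := Ideal.quotientMap P _ h2.ge
  have hfg : f.comp (algebraMap (A ⧸ p) (B ⧸ y)) = g.comp (algebraMap (A ⧸ p) (B ⧸ y)) :=
    Ideal.Quotient.ringHom_ext (RingHom.ext fun a => by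
      show Ideal.Quotient.mk P ((Algebra.TensorProduct.includeLeft : B →ₐ[A] B ⊗[A] B) (algebraMap A B a)) =
        Ideal.Quotient.mk P ((Algebra.TensorProduct.includeRight : B →ₐ[A] B ⊗[A] B) (algebraMap A B a))
      rw [AlgHom.commutes, AlgHom.commutes])
  rw [← KaehlerDifferential.span_range_eq_ideal, Ideal.span_le]
  rintro _ ⟨b, rfl⟩
  refine Ideal.Quotient.eq_zero_iff_mem.1 ?_
  rw [map_sub, sub_eq_zero]
  exact (eq_of_purelyInseparable f g hfg (Ideal.Quotient.mk y b)).symm

theorem nontrivial_aux {k K L : Type u} [Field k] [Field K] [Field L] [Algebra k K] [Algebra k L] : Nontrivial (K ⊗[k] L) :=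
  inferInstance

set_option synthInstance.maxHeartbeats 100000 in
set_option maxHeartbeats 800000 in
theorem exists_tensor_point (q₁ q₂ : PrimeSpectrum B)
    (h : PrimeSpectrum.comap (algebraMap A B) q₁ = PrimeSpectrum.comap (algebraMap A B) q₂) :
    ∃ P : PrimeSpectrum (B ⊗[A] B),
      PrimeSpectrum.comap (Algebra.TensorProduct.includeLeft : B →ₐ[A] B ⊗[A] B).toRingHom P = q₁ ∧
      PrimeSpectrum.comap (Algebra.TensorProduct.includeRight : B →ₐ[A] B ⊗[A] B).toRingHom P = q₂ := by
  let p := PrimeSpectrum.comap (algebraMap A B) q₁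
  let k := p.asIdeal.ResidueField
  let i1 : k →ₐ[A] q₁.asIdeal.ResidueField := Ideal.ResidueField.mapₐ p.asIdeal q₁.asIdeal (Algebra.ofId A B) rfl
  let i2 : k →ₐ[A] q₂.asIdeal.ResidueField :=
    Ideal.ResidueField.mapₐ p.asIdeal q₂.asIdeal (Algebra.ofId A B) (congrArg PrimeSpectrum.asIdeal h)
  letI := i1.toRingHom.toAlgebra
  letI := i2.toRingHom.toAlgebra
  haveI : IsScalarTower A k q₁.asIdeal.ResidueField := IsScalarTower.of_algebraMap_eq fun a => (i1.commutes a).symm
  haveI : IsScalarTower A k q₂.asIdeal.ResidueField := IsScalarTower.of_algebraMap_eq fun a => (i2.commutes a).symm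
  let T := q₁.asIdeal.ResidueField ⊗[k] q₂.asIdeal.ResidueField
  haveI : Nontrivial T := nontrivial_aux
  obtain ⟨m, hm⟩ := Ideal.exists_maximal T
  let l : q₁.asIdeal.ResidueField →ₐ[A] T :=
    (Algebra.TensorProduct.includeLeft : q₁.asIdeal.ResidueField →ₐ[k] T).restrictScalars A
  let r : q₂.asIdeal.ResidueField →ₐ[A] T :=
    (Algebra.TensorProduct.includeRight : q₂.asIdeal.ResidueField →ₐ[k] T).restrictScalars A
  let Φ : B ⊗[A] B →ₐ[A] T := Algebra.TensorProduct.lift (l.comp (IsScalarTower.toAlgHom A B _))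
    (r.comp (IsScalarTower.toAlgHom A B _)) fun _ _ => Commute.all _ _
  let P := PrimeSpectrum.comap Φ.toRingHom ⟨m, hm.isPrime⟩
  refine ⟨P, ?_, ?_⟩
  · rw [show PrimeSpectrum.comap (Algebra.TensorProduct.includeLeft : B →ₐ[A] B ⊗[A] B).toRingHom P =
      PrimeSpectrum.comap (algebraMap B q₁.asIdeal.ResidueField) (PrimeSpectrum.comap l.toRingHom ⟨m, hm.isPrime⟩) by
      refine PrimeSpectrum.ext (Ideal.ext fun b => ?_)
      show Φ (b ⊗ₜ[A] (1 : B)) ∈ m ↔ l (algebraMap B _ b) ∈ m
      simp [Φ]]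
    exact (PrimeSpectrum.residueField_comap q₁).le ⟨_, rfl⟩
  · rw [show PrimeSpectrum.comap (Algebra.TensorProduct.includeRight : B →ₐ[A] B ⊗[A] B).toRingHom P =
      PrimeSpectrum.comap (algebraMap B q₂.asIdeal.ResidueField) (PrimeSpectrum.comap r.toRingHom ⟨m, hm.isPrime⟩) by
      refine PrimeSpectrum.ext (Ideal.ext fun b => ?_)
      show Φ ((1 : B) ⊗ₜ[A] b) ∈ m ↔ r (algebraMap B _ b) ∈ m
      simp [Φ]]
    exact (PrimeSpectrum.residueField_comap q₂).le ⟨_, rfl⟩

theorem isMaximal [Algebra.QuasiFinite A B] [T2Space (PrimeSpectrum A)] (q : PrimeSpectrum B) : q.asIdeal.IsMaximal := by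
  obtain ⟨M, hM, hqM⟩ := Ideal.exists_le_maximal _ q.2.ne_top
  have h1 : (q.asIdeal.comap (algebraMap A B)).IsMaximal :=
    ProfSpecLib.isMaximal_of_t2Space A (PrimeSpectrum.comap (algebraMap A B) q)
  have h2 : q.asIdeal.comap (algebraMap A B) = M.comap (algebraMap A B) :=
    h1.eq_of_le (Ideal.IsPrime.comap (algebraMap A B) (K := M) (hK := hM.isPrime)).ne_top (Ideal.comap_mono hqM)
  haveI := hM.isPrime
  rw [Algebra.QuasiFinite.eq_of_le_of_under_eq (R := A) q.asIdeal M hqM h2]
  exact hM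

theorem extremallyDisconnected_of_quasiFinite [Algebra.QuasiFinite A B] [Algebra.FinitePresentation A B]
    (hres : ∀ p : PrimeSpectrum A, IsSepClosed p.asIdeal.ResidueField)
    [T2Space (PrimeSpectrum A)] [ExtremallyDisconnected (PrimeSpectrum A)] :
    ExtremallyDisconnected (PrimeSpectrum B) := by
  classical
  obtain ⟨-, hT2, hTD⟩ := ProfSpecLib.isProfinite B fun q => isMaximal (A := A) q
  haveI := hT2
  haveI := hTD
  let f := PrimeSpectrum.comap (algebraMap A B)
  have hf : Continuous f := PrimeSpectrum.continuous_comap _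
  refine extremallyDisconnected_of_local fun y => ?_
  have hFfin : (f ⁻¹' {f y} \ {y}).Finite := (Algebra.QuasiFinite.finite_comap_preimage_singleton (f y)).subset Set.diff_subset
  obtain ⟨U, hU, hyU, hUF⟩ := compact_exists_isClopen_in_isOpen hFfin.isClosed.isOpen_compl (show y ∈ (f ⁻¹' {f y} \ {y})ᶜ from fun h => h.2 rfl)
  let p1 := PrimeSpectrum.comap (Algebra.TensorProduct.includeLeft : B →ₐ[A] B ⊗[A] B).toRingHom
  let p2 := PrimeSpectrum.comap (Algebra.TensorProduct.includeRight : B →ₐ[A] B ⊗[A] B).toRingHom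
  let Δ := PrimeSpectrum.zeroLocus (R := B ⊗[A] B) (KaehlerDifferential.ideal A B : Set (B ⊗[A] B))
  haveI : Algebra.QuasiFinite A (B ⊗[A] B) := Algebra.QuasiFinite.trans A B (B ⊗[A] B)
  obtain ⟨-, hT2', -⟩ := ProfSpecLib.isProfinite (B ⊗[A] B) fun q => isMaximal (A := A) q
  haveI := hT2'
  have hΔ : IsOpen Δ := by
    obtain ⟨S, hS⟩ := KaehlerDifferential.ideal_fg A B
    have hD : IsCompact Δᶜ := by
      have : Δᶜ = ⋃ s ∈ (S : Set (B ⊗[A] B)), (PrimeSpectrum.basicOpen s : Set (PrimeSpectrum (B ⊗[A] B))) := by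
        ext P
        simp only [Δ, ← hS, PrimeSpectrum.zeroLocus_span, Set.mem_compl_iff, PrimeSpectrum.mem_zeroLocus, Set.not_subset,
          Set.mem_iUnion]
        exact ⟨fun ⟨s, h1, h2⟩ => ⟨s, h1, h2⟩, fun ⟨s, h1, h2⟩ => ⟨s, h1, h2⟩⟩
      rw [this]
      exact S.finite_toSet.isCompact_biUnion fun s _ => PrimeSpectrum.isCompact_basicOpen s
    exact isClosed_compl_iff.1 hD.isClosed
  let G := Δᶜ ∩ p1 ⁻¹' U ∩ p2 ⁻¹' U
  have hG : IsCompact G :=
    ((hΔ.isClosed_compl.inter (hU.1.preimage (PrimeSpectrum.continuous_comap _))).inter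
      (hU.1.preimage (PrimeSpectrum.continuous_comap _))).isCompact
  let h12 := PrimeSpectrum.comap (algebraMap A (B ⊗[A] B))
  have hc1 : ∀ P, f (p1 P) = h12 P := fun P => by
    refine PrimeSpectrum.ext ?_
    exact congrArg (fun φ => Ideal.comap φ P.asIdeal) (Algebra.TensorProduct.includeLeft : B →ₐ[A] B ⊗[A] B).comp_algebraMap
  have hc2 : ∀ P, f (p2 P) = h12 P := fun P => by
    refine PrimeSpectrum.ext ?_
    exact congrArg (fun φ => Ideal.comap φ P.asIdeal) (Algebra.TensorProduct.includeRight : B →ₐ[A] B ⊗[A] B).comp_algebraMap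
  have huniq : ∀ q ∈ U, f q = f y → q = y := fun q hq he => by
    by_contra hne
    exact hUF hq ⟨he, hne⟩
  have hpG : f y ∉ h12 '' G := by
    rintro ⟨P, ⟨⟨hPΔ, hP1⟩, hP2⟩, hPy⟩
    have e1 := huniq _ hP1 ((hc1 P).trans hPy)
    have e2 := huniq _ hP2 ((hc2 P).trans hPy)
    haveI := isMaximal (A := A) y
    haveI : (y.asIdeal.comap (algebraMap A B)).IsMaximal := ProfSpecLib.isMaximal_of_t2Space A (f y)
    exact hPΔ (diag_le y.asIdeal (hres (f y)) P.asIdeal (congrArg PrimeSpectrum.asIdeal e1) (congrArg PrimeSpectrum.asIdeal e2))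
  let V := (h12 '' G)ᶜ
  have hV : IsOpen V := ((hG.image (PrimeSpectrum.continuous_comap _)).isClosed).isOpen_compl
  obtain ⟨W, hW, hyW, hWV⟩ := compact_exists_isClopen_in_isOpen (hV.preimage hf) (show y ∈ f ⁻¹' V from hpG)
  let N := U ∩ W
  have hN : IsClopen N := hU.inter hW
  have hinj : Set.InjOn f N := by
    intro q₁ h₁ q₂ h₂ he
    obtain ⟨P, hP1, hP2⟩ := exists_tensor_point (A := A) q₁ q₂ he
    by_contra hne
    refine hWV h₁.2 ⟨P, ⟨⟨fun hPΔ => hne ?_, show p1 P ∈ U by rw [show p1 P = q₁ from hP1]; exact h₁.1⟩,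
      show p2 P ∈ U by rw [show p2 P = q₂ from hP2]; exact h₂.1⟩, by rw [← hc1, show p1 P = q₁ from hP1]⟩
    rw [← hP1, ← hP2]
    refine PrimeSpectrum.ext (Ideal.ext fun b => ?_)
    have hb : (1 : B) ⊗ₜ[A] b - b ⊗ₜ[A] (1 : B) ∈ P.asIdeal := hPΔ (by
      rw [← KaehlerDifferential.span_range_eq_ideal]; exact Ideal.subset_span ⟨b, rfl⟩)
    show b ⊗ₜ[A] (1 : B) ∈ P.asIdeal ↔ (1 : B) ⊗ₜ[A] b ∈ P.asIdeal
    exact ⟨fun hx => by simpa using P.asIdeal.add_mem hb hx, fun hx => by simpa using P.asIdeal.sub_mem hx hb⟩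
  have hopen : IsOpen (f '' N) := isOpen_of_isConstructible (PrimeSpectrum.isConstructible_comap_image
    (RingHom.finitePresentation_algebraMap.2 ‹Algebra.FinitePresentation A B›) (hN.1.isCompact.isConstructible hN.2))
  haveI : CompactSpace N := isCompact_iff_compactSpace.1 hN.1.isCompact
  let g : N → PrimeSpectrum A := fun z => f z.1
  have hg : IsOpenEmbedding g := by
    have hce : IsClosedEmbedding g := (hf.comp continuous_subtype_val).isClosedEmbedding fun a b h => Subtype.ext (hinj a.2 b.2 h)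
    refine ⟨hce.isEmbedding, ?_⟩
    convert hopen using 1
    ext x; simp [g]
  refine ⟨N, hN.2, ⟨hyU, hyW⟩, ⟨fun O hO => ?_⟩⟩
  rw [hg.isInducing.closure_eq_preimage_closure_image]
  exact (ExtremallyDisconnected.open_closure _ (hg.isOpenMap O hO)).preimage hg.continuous

end Groth.Agent.ZeroDimEDLib
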